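import Mathlib

/-! # Operators of a cyclic group of prime power order in characteristic `p`. -/

set_option autoImplicit false

namespace CfsgLib.CyclicTIDim

open Polynomial

variable {F V : Type*} [Field F] [AddCommGroup V] [Module F V] {p n : ℕ} [Fact p.Prime] [CharP F p]

theorem sum_eq_sub_one_pow : ∑ i ∈ Finset.range (p ^ n), (X : F[X]) ^ i = (X - 1) ^ (p ^ n - 1) := by
  have h0 : ((X : F[X]) - 1) ≠ 0 := sub_ne_zero.2 (X_ne_C 1)
  apply mul_right_cancel₀ h0
  rw [geom_sum_mul, ← pow_succ, Nat.sub_add_cancel (Nat.one_le_pow _ _ (Fact.out : p.Prime).pos),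
    sub_pow_char_pow, one_pow]

theorem sub_one_pow_char (f : Module.End F V) (k : ℕ) : (f - 1) ^ p ^ k = f ^ p ^ k - 1 := by
  have h : ((X : F[X]) - 1) ^ p ^ k = X ^ p ^ k - 1 := by rw [sub_pow_char_pow, one_pow]
  have := congrArg (aeval f) h
  simpa using this

/-- A relative trace from the trivial subgroup kills vectors of small height. -/
theorem trace_apply_eq_zero {y : Module.End F V} (hy : y ^ p ^ n = 1) (a : Module.End F V) {e d : ℕ}
    (hd : (y - 1) ^ d = 0) (hde : d + e < p ^ n) {u : V} (hu : ((y - 1) ^ (e + 1)) u = 0) :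
    (∑ i ∈ Finset.range (p ^ n), y ^ i * a * (y ^ (p ^ n - 1)) ^ i) u = 0 := by
  set q := p ^ n with hq
  set y' := y ^ (q - 1)
  set T := y - 1
  have hq1 : 1 ≤ q := Nat.one_le_pow _ _ (Fact.out : p.Prime).pos
  have hyy : y' * y = 1 := by rw [← pow_succ, Nat.sub_add_cancel hq1, hy]
  let A : Module.End F (Module.End F V) := LinearMap.mulLeft F y * LinearMap.mulRight F y'
  have hA : ∀ i : ℕ, (A ^ i) a = y ^ i * a * y' ^ i := by
    intro i
    rw [(LinearMap.commute_mulLeft_right y y').mul_pow, LinearMap.pow_mulLeft, LinearMap.pow_mulRight]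
    simp [mul_assoc]
  have hsum : ∑ i ∈ Finset.range q, y ^ i * a * y' ^ i = ((A - 1) ^ (q - 1)) a := by
    rw [show (A - 1) ^ (q - 1) = ∑ i ∈ Finset.range q, A ^ i by
      have := congrArg (aeval A) (sum_eq_sub_one_pow (F := F) (p := p) (n := n))
      simpa [← hq] using this.symm, LinearMap.sum_apply]
    exact Finset.sum_congr rfl fun i _ => (hA i).symm
  let L : Module.End F (Module.End F V) := LinearMap.mulLeft F T
  let R : Module.End F (Module.End F V) := LinearMap.mulRight F T
  let R' : Module.End F (Module.End F V) := LinearMap.mulRight F y'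
  have hfac : A - 1 = (L + -R) * R' := by
    refine LinearMap.ext fun b => ?_
    simp only [A, L, R, R', T, LinearMap.sub_apply, Module.End.mul_apply, Module.End.one_apply,
      LinearMap.add_apply, LinearMap.neg_apply, LinearMap.mulLeft_apply, LinearMap.mulRight_apply]
    rw [sub_mul y, one_mul, mul_sub (b * y'), mul_one, mul_assoc b, hyy, mul_one]
    abel
  have hc1 : Commute L (-R) :=
    (show Commute L R from LinearMap.commute_mulLeft_right T T).neg_right
  have hc2 : Commute R R' := by
    have h : Commute T y' := ((Commute.refl y).sub_left (Commute.one_left y)).pow_right _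
    refine LinearMap.ext fun b => ?_
    simp only [R, R', Module.End.mul_apply, LinearMap.mulRight_apply, mul_assoc, h.eq]
  have hc3 : Commute L R' := LinearMap.commute_mulLeft_right T y'
  rw [hsum, hfac, (hc3.add_left hc2.neg_left).mul_pow, hc1.add_pow, Module.End.mul_apply,
    LinearMap.sum_apply, LinearMap.sum_apply]
  refine Finset.sum_eq_zero fun j hj => ?_
  rw [Finset.mem_range] at hj
  rw [← (Nat.cast_commute _ _).eq, ← nsmul_eq_mul, LinearMap.smul_apply, LinearMap.smul_apply,
    Module.End.mul_apply]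
  simp only [neg_pow R]
  rcases Nat.lt_or_ge j d with hjd | hjd
  · have hk : (T ^ (q - 1 - j)) u = 0 := by
      obtain ⟨r, hr⟩ := Nat.exists_eq_add_of_le (show e + 1 ≤ q - 1 - j by omega)
      rw [hr, add_comm, pow_add, Module.End.mul_apply, hu, map_zero]
    rcases neg_one_pow_eq_or (Module.End F (Module.End F V)) (q - 1 - j) with h | h <;>
      simp [h, L, R, hk]
  · have hk : T ^ j = 0 := pow_eq_zero_of_le hjd hd
    simp [L, hk]

end CfsgLib.CyclicTIDim
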