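import Cfsg.Agent.Lib.CyclicTIDim.Basic

/-! # The degree of a faithful modular representation with a cyclic TI Sylow subgroup. -/

set_option autoImplicit false

namespace CfsgLib.CyclicTIDim

variable {F V : Type*} [Field F] [AddCommGroup V] [Module F V] {p : ℕ} [Fact p.Prime] [CharP F p]
  [FiniteDimensional F V] {G : Type*} [Group G] [Finite G]

set_option maxHeartbeats 1000000 in
theorem finrank_bound (P : Sylow p G) (hcyc : IsCyclic P) (n : ℕ) (hn : 2 ≤ n)
    (hPn : Nat.card P = p ^ n)
    (hTI : ∀ Q : Sylow p G, Q ≠ P → (P : Subgroup G) ⊓ (Q : Subgroup G) = ⊥)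
    (ρ : Representation F G V) (hfaith : Function.Injective ρ) (hirr : ρ.IsIrreducible) :
    p ^ n - (p - 1) ≤ Module.finrank F V := by
  classical
  have hpp : p.Prime := Fact.out
  haveI := Fintype.ofFinite G
  haveI := hcyc
  letI : CommGroup P := IsCyclic.commGroup
  haveI := Fintype.ofFinite P
  obtain ⟨x, hx⟩ := IsCyclic.exists_monoid_generator (α := P)
  have hox : orderOf x = p ^ n := by
    rw [← hPn]
    exact orderOf_eq_card_of_forall_mem_powers hx
  set q := p ^ n with hq
  set y : Module.End F V := ρ (x : G) with hydef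
  set T := y - 1 with hT
  have hyq : y ^ q = 1 := by
    rw [hydef, ← map_pow, ← hox, ← Subgroup.coe_pow, pow_orderOf_eq_one]; simp
  have hTq : T ^ q = 0 := by rw [hT, hq, sub_one_pow_char, ← hq, hyq, sub_self]
  have hex : ∃ d, T ^ d = 0 := ⟨q, hTq⟩
  set d := Nat.find hex with hd
  have hTd : T ^ d = 0 := Nat.find_spec hex
  have hdim : d ≤ Module.finrank F V := by
    refine Nat.find_min' hex ?_
    rcases Nat.lt_or_ge q (Module.finrank F V) with h | h
    · exact pow_eq_zero_of_le h.le hTq
    · have := Module.End.ker_pow_eq_ker_pow_finrank_of_le (f := T) h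
      rw [hTq, LinearMap.ker_zero] at this
      exact LinearMap.ker_eq_top.1 this.symm
  by_contra hlt
  have hdlt : d + (p - 1) < q := by omega
  have hd2 : p < d := by
    by_contra h
    have h1 : T ^ p = 0 := pow_eq_zero_of_le (not_lt.1 h) hTd
    have h2 := sub_one_pow_char (p := p) y 1
    rw [pow_one, ← hT, h1, eq_comm, sub_eq_zero, hydef, ← map_pow] at h2
    have h3 : (x : G) ^ p = 1 := hfaith (h2.trans (map_one ρ).symm)
    have h4 : orderOf x ∣ p := orderOf_dvd_of_pow_eq_one (Subtype.ext (by simpa using h3))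
    rw [hox] at h4
    have := Nat.le_of_dvd hpp.pos h4
    have : p ^ 2 ≤ q := Nat.pow_le_pow_right hpp.pos hn
    nlinarith [hpp.two_le]
  -- the automorphisms induced by the normalizer
  set N := Subgroup.normalizer ((P : Subgroup G) : Set G) with hN
  let c : N →* MulAut P := Subgroup.normalizerMonoidHom (P : Subgroup G)
  have hcapp : ∀ (g : N) (a : P), ((c g a : P) : G) = (g : G) * a * (g : G)⁻¹ := fun g a => rfl
  let A : Finset (MulAut P) := (Set.range c).toFinite.toFinset
  have hmemA : ∀ σ, σ ∈ A ↔ σ ∈ c.range := fun σ => by simp [A]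
  set e := A.card with he
  have he1 : 1 ≤ e := Finset.card_pos.2 ⟨c 1, (hmemA _).2 ⟨1, rfl⟩⟩
  have hep : e ≤ p - 1 := by
    have hcard : e = Nat.card c.range := by
      rw [← SetLike.coe_sort_coe, Nat.card_coe_set_eq, he, MonoidHom.coe_range,
        ← Set.ncard_coe_finset, Set.Finite.coe_toFinset]
    have h1 : e ∣ (p - 1) * p ^ (n - 1) := by
      rw [hcard, mul_comm, ← Nat.totient_prime_pow hpp (by omega), ← (show Nat.card P = p ^ n from hPn),
        ← IsCyclic.card_mulAut P]
      exact Subgroup.card_subgroup_dvd_card _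
    have h2 : Nat.Coprime e (p ^ (n - 1)) := by
      apply Nat.Coprime.pow_right
      rw [Nat.coprime_comm, hpp.coprime_iff_not_dvd]
      intro hpe
      have h3 : (P : Subgroup G).subgroupOf N ≤ c.ker := by
        intro g hg
        rw [MonoidHom.mem_ker]
        refine MulEquiv.ext fun a => Subtype.ext ?_
        rw [hcapp, MulAut.one_apply]
        have := congrArg (fun t : P => (t : G)) (mul_comm' (⟨(g : G), hg⟩ : P) a)
        replace this : (g : G) * (a : G) = (a : G) * (g : G) := this
        rw [this, mul_inv_cancel_right]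
      have h4 : Nat.card c.range ∣ ((P : Subgroup G).subgroupOf N).index := by
        rw [← Subgroup.index_ker]
        exact Subgroup.index_dvd_of_le h3
      refine P.not_dvd_index (dvd_trans (hcard ▸ hpe) (dvd_trans h4 ?_))
      exact Subgroup.relIndex_dvd_index_of_le Subgroup.le_normalizer
    exact Nat.le_of_dvd (by have := hpp.two_le; omega) (h2.dvd_of_dvd_mul_right h1)
  -- the invariant element
  let Φ : MonoidAlgebra F P →ₐ[F] Module.End F V :=
    MonoidAlgebra.lift F (Module.End F V) P (ρ.comp (P : Subgroup G).subtype)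
  let ε : MonoidAlgebra F P →ₐ[F] F := MonoidAlgebra.lift F F P 1
  let z0 : MonoidAlgebra F P := ∏ σ ∈ A, (MonoidAlgebra.single (σ x) 1 - 1)
  set z := Φ z0 with hz
  have hΦ : ∀ a : P, Φ (MonoidAlgebra.single a 1) = ρ (a : G) := fun a => by
    simp [Φ]
  have hinv : ∀ g : N, ρ (g : G) * z = z * ρ (g : G) := by
    intro g
    have h1 : ∀ f : MonoidAlgebra F P, ρ (g : G) * Φ f
        = Φ (MonoidAlgebra.mapDomainAlgHom F F (c g).toMonoidHom f) * ρ (g : G) := by
      intro f
      induction f using MonoidAlgebra.induction_linear with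
      | zero => simp
      | add a b ha hb => rw [map_add, map_add, map_add, mul_add, add_mul, ha, hb]
      | single a r =>
          rw [show MonoidAlgebra.single a r = r • MonoidAlgebra.single a (1 : F) by simp]
          simp only [map_smul, hΦ, MonoidAlgebra.mapDomainAlgHom_apply, MonoidAlgebra.mapDomain_single,
            mul_smul_comm, smul_mul_assoc, MulEquiv.coe_toMonoidHom]
          rw [hcapp, ← map_mul, ← map_mul, inv_mul_cancel_right]
    have h2 : MonoidAlgebra.mapDomainAlgHom F F (c g).toMonoidHom z0 = z0 := by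
      simp only [z0, map_prod, map_sub, map_one, MonoidAlgebra.mapDomainAlgHom_apply,
        MonoidAlgebra.mapDomain_single, MulEquiv.coe_toMonoidHom]
      refine Finset.prod_nbij' (fun σ => c g * σ) (fun σ => (c g)⁻¹ * σ) ?_ ?_ ?_ ?_ ?_
      · exact fun σ hσ => (hmemA _).2 (mul_mem ⟨g, rfl⟩ ((hmemA _).1 hσ))
      · exact fun σ hσ => (hmemA _).2 (mul_mem (inv_mem ⟨g, rfl⟩) ((hmemA _).1 hσ))
      · simp
      · simp
      · simp [MulAut.mul_apply]
    rw [hz, h1, h2]
  -- its leading term
  have hexp : ∀ σ : MulAut P, ∃ a : ℕ, σ x = x ^ a ∧ (a : F) ≠ 0 := by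
    intro σ
    obtain ⟨a, ha⟩ := hx (σ x)
    refine ⟨a, ha.symm, ?_⟩
    rw [Ne, CharP.cast_eq_zero_iff F p]
    rintro ⟨r, rfl⟩
    have h1 : (σ x) ^ p ^ (n - 1) = 1 := by
      rw [← ha, ← pow_mul, mul_comm p r, mul_assoc, ← pow_succ', Nat.sub_add_cancel (by omega : 1 ≤ n),
        mul_comm, pow_mul, ← hq, ← hox, pow_orderOf_eq_one, one_pow]
    have h2 := orderOf_dvd_of_pow_eq_one h1
    rw [MulEquiv.orderOf_eq, hox, hq, Nat.pow_dvd_pow_iff_le_right hpp.one_lt] at h2
    omega
  choose a ha ha0 using hexp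
  let W : MonoidAlgebra F P := ∏ σ ∈ A, ∑ i ∈ Finset.range (a σ), MonoidAlgebra.single x (1 : F) ^ i
  have hz0 : z0 = (MonoidAlgebra.single x (1 : F) - 1) ^ e * W := by
    rw [he, ← Finset.prod_const, ← Finset.prod_mul_distrib]
    refine Finset.prod_congr rfl fun σ _ => ?_
    rw [mul_geom_sum, MonoidAlgebra.single_pow, one_pow, ha]
  have hεW : ε W = ∏ σ ∈ A, (a σ : F) := by
    simp [W, ε]
  have hfix : ∀ v : V, T v = 0 → ∀ f : MonoidAlgebra F P, Φ f v = ε f • v := by
    intro v hv f
    have hyv : y v = v := by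
      rw [hT, LinearMap.sub_apply, sub_eq_zero] at hv
      exact hv
    induction f using MonoidAlgebra.induction_linear with
    | zero => simp
    | add a b ha hb => simp [ha, hb, add_smul]
    | single a r =>
        rw [show MonoidAlgebra.single a r = r • MonoidAlgebra.single a (1 : F) by simp]
        simp only [map_smul, hΦ, ε, MonoidAlgebra.lift_single, MonoidHom.one_apply, one_smul,
          smul_eq_mul, mul_one, LinearMap.smul_apply]
        congr 1
        obtain ⟨j, hj⟩ := hx a
        rw [← hj, Subgroup.coe_pow, map_pow]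
        clear hj
        induction j with
        | zero => simp
        | succ j ih => rw [pow_succ, Module.End.mul_apply, ← hydef, hyv]; exact ih
  -- the vector
  have hTd1 : T ^ (d - 1) ≠ 0 := Nat.find_min hex (by omega)
  obtain ⟨w, hw⟩ : ∃ w, (T ^ (d - 1)) w ≠ 0 := by
    by_contra h
    push Not at h
    exact hTd1 (LinearMap.ext h)
  set u := (T ^ (d - 1 - e)) w with hu
  have hue : (T ^ e) u = (T ^ (d - 1)) w := by
    rw [hu, ← Module.End.mul_apply, ← pow_add, Nat.add_sub_cancel' (by omega : e ≤ d - 1)]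
  have hue1 : (T ^ (e + 1)) u = 0 := by
    rw [pow_succ', Module.End.mul_apply, hue, ← Module.End.mul_apply, ← pow_succ',
      Nat.sub_add_cancel (by omega : 1 ≤ d), hTd, LinearMap.zero_apply]
  have hzu : z u = (∏ σ ∈ A, (a σ : F)) • (T ^ (d - 1)) w := by
    have hTT : Φ (MonoidAlgebra.single x (1 : F) - 1) = T := by
      rw [map_sub, map_one, hΦ, hT, hydef]
    rw [hz, hz0, mul_comm, map_mul, map_pow, hTT, Module.End.mul_apply, hue,
      hfix _ (by rw [← hue, ← Module.End.mul_apply, ← pow_succ', hue1]) W, hεW]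
  -- the transfer of the invariant element
  let K : G ⧸ N → Module.End F V := fun r => ρ r.out * z * ρ r.out⁻¹
  have hK : ∀ g : G, K (g : G ⧸ N) = ρ g * z * ρ g⁻¹ := by
    intro g
    obtain ⟨m, hm⟩ := QuotientGroup.mk_out_eq_mul N g
    show ρ (Quotient.out (g : G ⧸ N)) * z * ρ (Quotient.out (g : G ⧸ N))⁻¹ = _
    rw [hm, _root_.mul_inv_rev, map_mul, map_mul, mul_assoc (ρ g), hinv m,
      mul_assoc (ρ g), mul_assoc z, ← mul_assoc (ρ (m : G)), ← map_mul ρ (m : G), mul_inv_cancel,
      map_one, one_mul, ← mul_assoc]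
  have hKsmul : ∀ (g : G) (r : G ⧸ N), K (g • r) = ρ g * K r * ρ g⁻¹ := by
    intro g r
    obtain ⟨h, rfl⟩ := QuotientGroup.mk_surjective r
    rw [MulAction.Quotient.smul_mk, smul_eq_mul, hK, hK, _root_.mul_inv_rev, map_mul, map_mul]
    simp only [mul_assoc]
  haveI := Fintype.ofFinite (G ⧸ N)
  set S := ∑ r : G ⧸ N, K r with hS
  have hScomm : ∀ g : G, S * ρ g = ρ g * S := by
    intro g
    rw [hS, Finset.mul_sum, Finset.sum_mul]
    refine (Fintype.sum_equiv (MulAction.toPerm g) _ _ fun r => ?_).symm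
    rw [MulAction.toPerm_apply, hKsmul, mul_assoc, ← map_mul, inv_mul_cancel, map_one, mul_one]
  -- the other cosets
  have hfree : ∀ (r : G ⧸ N), r ≠ ((1 : G) : G ⧸ N) → ∀ b : P, (b : G) • r = r → b = 1 := by
    intro r hr b hb
    obtain ⟨g, rfl⟩ := QuotientGroup.mk_surjective r
    rw [MulAction.Quotient.smul_mk, smul_eq_mul, QuotientGroup.eq] at hb
    by_contra hb1
    have h1 : g⁻¹ * (b : G) * g ∈ N := by
      have := N.inv_mem hb
      simpa [mul_assoc] using this
    have hp1 : IsPGroup p (Subgroup.zpowers (g⁻¹ * (b : G) * g)) := by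
      have hb' : IsPGroup p (Subgroup.zpowers (b : G)) :=
        P.isPGroup'.to_le (Subgroup.zpowers_le.2 b.2)
      obtain ⟨k, hk⟩ := hb' ⟨(b : G), Subgroup.mem_zpowers _⟩
      refine IsPGroup.iff_card.2 ?_
      rw [Nat.card_zpowers, show g⁻¹ * (b : G) * g = MulAut.conj g⁻¹ (b : G) by simp,
        MulEquiv.orderOf_eq]
      obtain ⟨j, -, hj⟩ := (Nat.dvd_prime_pow hpp).1
        (orderOf_dvd_of_pow_eq_one (by simpa using congrArg Subtype.val hk : (b : G) ^ p ^ k = 1))
      exact ⟨j, hj⟩
    have h2 : g⁻¹ * (b : G) * g ∈ (P : Subgroup G) := by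
      have hle : Subgroup.zpowers (g⁻¹ * (b : G) * g) ≤ N := Subgroup.zpowers_le.2 h1
      have hsup : IsPGroup p (Subgroup.zpowers (g⁻¹ * (b : G) * g) ⊔ (P : Subgroup G) : Subgroup G) :=
        hp1.to_sup_of_normal_right' P.isPGroup' hle
      have hmax := P.is_maximal' hsup le_sup_right
      exact hmax.le ((le_sup_left : Subgroup.zpowers (g⁻¹ * (b : G) * g) ≤ _) (Subgroup.mem_zpowers _))
    apply hr
    rw [QuotientGroup.eq, mul_one, inv_mem_iff]
    by_contra hgN
    have hne : g • P ≠ P := fun h => hgN (Sylow.smul_eq_iff_mem_normalizer.1 h)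
    have h3 : (b : G) ∈ ((g • P : Sylow p G) : Subgroup G) :=
      ⟨g⁻¹ * (b : G) * g, h2, by simp [mul_assoc]⟩
    have h4 := hTI _ hne
    exact hb1 (Subtype.ext (Subgroup.mem_bot.1 (h4 ▸ Subgroup.mem_inf.2 ⟨b.2, h3⟩)))
  let others := Finset.univ.filter (fun r : G ⧸ N => r ≠ ((1 : G) : G ⧸ N))
  have hrest : (∑ r ∈ others, K r) u = 0 := by
    let π := fun r : G ⧸ N => (Quotient.mk (MulAction.orbitRel P (G ⧸ N)) r)
    haveI := Fintype.ofFinite (Quotient (MulAction.orbitRel P (G ⧸ N)))
    rw [← Finset.sum_fiberwise others π K, LinearMap.sum_apply]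
    refine Finset.sum_eq_zero fun ω _ => ?_
    by_cases hω : (others.filter fun r => π r = ω).Nonempty
    swap
    · rw [Finset.not_nonempty_iff_eq_empty.1 hω]; simp
    obtain ⟨r0, hr0⟩ := hω
    obtain ⟨hr0', rfl⟩ := Finset.mem_filter.1 hr0
    have hr0ne := (Finset.mem_filter.1 hr0').2
    have himg : (others.filter fun r => π r = π r0) = Finset.univ.image (fun b : P => (b : G) • r0) := by
      ext r
      simp only [Finset.mem_filter, Finset.mem_image, Finset.mem_univ, true_and, others, π,
        Quotient.eq, MulAction.orbitRel_apply, MulAction.mem_orbit_iff]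
      constructor
      · rintro ⟨-, b, hb⟩; exact ⟨b, hb⟩
      · rintro ⟨b, rfl⟩
        refine ⟨fun h => hr0ne ?_, b, rfl⟩
        rw [show r0 = (b : G)⁻¹ • ((1 : G) : G ⧸ N) by rw [← h, inv_smul_smul],
          MulAction.Quotient.smul_mk, smul_eq_mul, mul_one, QuotientGroup.eq, inv_inv, mul_one]
        exact Subgroup.le_normalizer b.2
    rw [himg, Finset.sum_image (fun b _ b' _ hbb => by
      have := hfree r0 hr0ne (b'⁻¹ * b) (by
        rw [Subgroup.coe_mul, mul_smul]
        show ((b'⁻¹ : P) : G) • ((b : G) • r0) = r0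
        rw [hbb, Subgroup.coe_inv, inv_smul_smul])
      exact (inv_mul_eq_one.1 this).symm)]
    have hsum : ∑ b : P, K ((b : G) • r0)
        = ∑ i ∈ Finset.range q, y ^ i * K r0 * (y ^ (q - 1)) ^ i := by
      symm
      refine Finset.sum_bij (fun i _ => x ^ i) (fun _ _ => Finset.mem_univ _) ?_ ?_ ?_
      · intro i hi j hj hij
        rw [Finset.mem_range, ← hox] at hi hj
        exact pow_injOn_Iio_orderOf hi hj hij
      · intro b _
        obtain ⟨j, hj⟩ := hx b
        refine ⟨j % q, Finset.mem_range.2 (Nat.mod_lt _ (pow_pos hpp.pos _)), ?_⟩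
        rw [← hox, pow_mod_orderOf]
        exact hj
      · intro i _
        have hyi : ρ ((x : G))⁻¹ = y ^ (q - 1) := by
          calc ρ ((x : G))⁻¹ = ρ ((x : G))⁻¹ * (y * y ^ (q - 1)) := by
                rw [← pow_succ', Nat.sub_add_cancel (Nat.one_le_pow _ _ hpp.pos), hyq, mul_one]
            _ = y ^ (q - 1) := by
                rw [← mul_assoc, hydef, ← map_mul, inv_mul_cancel, map_one, one_mul]
        rw [hKsmul, Subgroup.coe_pow, ← inv_pow, map_pow, map_pow, hyi, ← hydef]
    have hz' := trace_apply_eq_zero hyq (K r0) hTd (by omega) hue1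
    rw [← hsum] at hz'
    convert hz' using 5
  have hSu : S u = z u := by
    have h1 : S = K ((1 : G) : G ⧸ N) + ∑ r ∈ others, K r := by
      rw [hS, ← Finset.add_sum_erase _ _ (Finset.mem_univ ((1 : G) : G ⧸ N))]
      congr 1
      refine Finset.sum_congr ?_ fun _ _ => rfl
      ext r; simp [others]
    rw [h1, LinearMap.add_apply, hrest, add_zero, hK, map_one, inv_one, map_one, one_mul, mul_one]
  rw [hzu] at hSu
  have hprod : (∏ σ ∈ A, (a σ : F)) ≠ 0 := Finset.prod_ne_zero_iff.2 fun σ _ => ha0 σ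
  have hne : S u ≠ 0 := by rw [hSu]; exact smul_ne_zero hprod hw
  let φ : Representation.IntertwiningMap ρ ρ := ⟨S, fun g => hScomm g⟩
  have hTe : (T ^ e) (S u) = 0 := by
    rw [hSu, map_smul, ← Module.End.mul_apply, ← pow_add,
      pow_eq_zero_of_le (by omega : d ≤ e + (d - 1)) hTd, LinearMap.zero_apply, smul_zero]
  have hScT : Commute S T := (show Commute S y from hScomm _).sub_right (Commute.one_right S)
  haveI := hirr
  rcases Representation.IsIrreducible.injective_or_eq_zero φ with hbij | h0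
  · have h5 : S ((T ^ e) u) = S 0 := by
      rw [map_zero, ← Module.End.mul_apply, (hScT.pow_right e).eq, Module.End.mul_apply, hTe]
    have h6 := hbij h5
    rw [hue] at h6
    exact hw h6
  · exact hne (congrArg (fun f : Representation.IntertwiningMap ρ ρ => f u) h0)

end CfsgLib.CyclicTIDim
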